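import Mathlib
import Groth.Agent.GrModLib.Eventually

/-! A graded algebra of finite type which is locally generated in degree one is so in large degrees. -/

set_option autoImplicit false
set_option linter.style.haveILetI false

universe u

open DirectSum
open scoped HomogeneousIdeal Pointwise

noncomputable section

namespace Groth.Agent.DegOneGenLib

section semiring

variable {R B : Type u} [CommRing R] [CommRing B] [Algebra R B]

theorem pow_sup_le (X Y : Submodule R B) : ∀ a b : ℕ,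
    (X ⊔ Y) ^ (a + b) ≤ X ^ a * (X ⊔ Y) ^ b ⊔ Y ^ b * (X ⊔ Y) ^ a := by
  intro a
  induction a with
  | zero => intro b; simp only [zero_add, pow_zero, one_mul]; exact le_sup_left
  | succ a iha =>
    intro b
    induction b with
    | zero => simp only [add_zero, pow_zero, one_mul]; exact le_sup_right
    | succ b ihb =>
      have h1 : X * (X ⊔ Y) ^ (a + (b + 1)) ≤
          X ^ (a + 1) * (X ⊔ Y) ^ (b + 1) ⊔ Y ^ (b + 1) * (X ⊔ Y) ^ (a + 1) := by
        refine le_trans (mul_le_mul_right (iha (b + 1)) X) ?_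
        rw [Submodule.mul_sup]
        refine sup_le_sup (le_of_eq (by ring)) ?_
        rw [← mul_assoc, mul_comm X, mul_assoc]
        exact mul_le_mul_right (le_trans (mul_le_mul_left le_sup_left _) (le_of_eq (pow_succ' _ _).symm)) _
      have h2 : Y * (X ⊔ Y) ^ (a + 1 + b) ≤
          X ^ (a + 1) * (X ⊔ Y) ^ (b + 1) ⊔ Y ^ (b + 1) * (X ⊔ Y) ^ (a + 1) := by
        refine le_trans (mul_le_mul_right ihb Y) ?_
        rw [Submodule.mul_sup]
        refine sup_le_sup ?_ (le_of_eq (by ring))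
        rw [← mul_assoc, mul_comm Y, mul_assoc]
        exact mul_le_mul_right (le_trans (mul_le_mul_left le_sup_right _) (le_of_eq (pow_succ' _ _).symm)) _
      rw [show a + 1 + (b + 1) = a + 1 + b + 1 by ring, pow_succ', Submodule.sup_mul]
      refine sup_le ?_ h2
      rw [show a + 1 + b = a + (b + 1) by ring]
      exact h1

end semiring

variable {R B : Type u} [CommRing R] [CommRing B] [Algebra R B] {ℬ : ℕ → Submodule R B} [GradedAlgebra ℬ]

theorem mul_le_deg {i j k : ℕ} (h : i + j = k) : ℬ i * ℬ j ≤ ℬ k :=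
  Submodule.mul_le.2 fun x hx y hy => h ▸ SetLike.mul_mem_graded hx hy

theorem pow_le_deg (n : ℕ) : ℬ 1 ^ n ≤ ℬ n := by
  induction n with
  | zero =>
    rw [pow_zero, Submodule.one_le]
    exact SetLike.one_mem_graded ℬ
  | succ n ih =>
    rw [pow_succ]
    exact le_trans (mul_le_mul_left ih _) (mul_le_deg rfl)

theorem zero_mul_pow {n : ℕ} (hn : 0 < n) : ℬ 0 * ℬ 1 ^ n ≤ ℬ 1 ^ n := by
  obtain ⟨n, rfl⟩ : ∃ m, n = m + 1 := ⟨n - 1, by omega⟩
  rw [pow_succ', ← mul_assoc]
  exact mul_le_mul_left (mul_le_deg (zero_add 1)) _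

theorem exists_gens [Algebra.FiniteType (ℬ 0) B] :
    ∃ (G : Finset B) (e : B → ℕ), (∀ g ∈ G, 0 < e g ∧ g ∈ ℬ (e g)) ∧ (ℬ₊).toIdeal = Ideal.span (G : Set B) := by
  classical
  obtain ⟨s, hs⟩ := (inferInstance : Algebra.FiniteType (ℬ 0) B).out
  let G : Finset B := s.biUnion fun a =>
    ((DirectSum.decompose ℬ a).support.erase 0).image fun i => (DirectSum.decompose ℬ a i : B)
  have hG : ∀ g ∈ G, ∃ i, 0 < i ∧ g ∈ ℬ i := fun g hg => by
    obtain ⟨a, _, hg⟩ := Finset.mem_biUnion.1 hg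
    obtain ⟨i, hi, rfl⟩ := Finset.mem_image.1 hg
    exact ⟨i, Nat.pos_of_ne_zero (Finset.mem_erase.1 hi).1, (DirectSum.decompose ℬ a i).2⟩
  choose! e he using hG
  refine ⟨G, e, he, le_antisymm ?_ (Ideal.span_le.2 fun g hg => HomogeneousIdeal.mem_irrelevant_of_mem ℬ (he g hg).1 (he g hg).2)⟩
  have key : ∀ z : B, z - (DirectSum.decompose ℬ z 0 : B) ∈ Ideal.span (G : Set B) := by
    intro z
    have hz : z ∈ Algebra.adjoin (ℬ 0) (s : Set B) := hs ▸ Algebra.mem_top
    induction hz using Algebra.adjoin_induction with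
    | mem a ha =>
      conv => arg 2; arg 1; rw [← DirectSum.sum_support_decompose ℬ a]
      by_cases h0 : 0 ∈ (DirectSum.decompose ℬ a).support
      · rw [← Finset.add_sum_erase _ _ h0, add_sub_cancel_left]
        exact Ideal.sum_mem _ fun i hi =>
          Ideal.subset_span (Finset.mem_biUnion.2 ⟨a, ha, Finset.mem_image.2 ⟨i, hi, rfl⟩⟩)
      · rw [DFinsupp.notMem_support_iff.1 h0, ZeroMemClass.coe_zero, sub_zero]
        exact Ideal.sum_mem _ fun i hi => Ideal.subset_span (Finset.mem_biUnion.2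
          ⟨a, ha, Finset.mem_image.2 ⟨i, Finset.mem_erase.2 ⟨fun h => h0 (h ▸ hi), hi⟩, rfl⟩⟩)
    | algebraMap r =>
      rw [show (algebraMap (ℬ 0) B r) = (r : B) from rfl, DirectSum.decompose_of_mem_same ℬ r.2, sub_self]
      exact zero_mem _
    | add x y _ _ hx hy =>
      rw [DirectSum.decompose_add, DFinsupp.add_apply, Submodule.coe_add, add_sub_add_comm]
      exact add_mem hx hy
    | mul x y _ _ hx hy =>
      have h0 : (DirectSum.decompose ℬ (x * y) 0 : B) = (DirectSum.decompose ℬ x 0 : B) * (DirectSum.decompose ℬ y 0 : B) :=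
        map_mul (GradedRing.projZeroRingHom ℬ) x y
      rw [h0, show x * y - (DirectSum.decompose ℬ x 0 : B) * (DirectSum.decompose ℬ y 0 : B) =
        (x - (DirectSum.decompose ℬ x 0 : B)) * y + (DirectSum.decompose ℬ x 0 : B) * (y - (DirectSum.decompose ℬ y 0 : B)) by ring]
      exact add_mem (Ideal.mul_mem_right _ _ hx) (Ideal.mul_mem_left _ _ hy)
  intro z hz
  have h0 := (HomogeneousIdeal.mem_irrelevant_iff _ _).1 hz
  rw [GradedRing.proj_apply] at h0
  simpa [h0] using key z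

theorem comp_of_mem_span {G : Finset B} {e : B → ℕ} (he : ∀ g ∈ G, g ∈ ℬ (e g)) {z : B} {n : ℕ} (hz : z ∈ ℬ n)
    (h : z ∈ Ideal.span (G : Set B)) :
    ∃ w : B → B, (∀ g ∈ G, e g ≤ n → w g ∈ ℬ (n - e g)) ∧ z = ∑ g ∈ G, if e g ≤ n then w g * g else 0 := by
  classical
  obtain ⟨c, hc⟩ := Submodule.mem_span_finset'.1 h
  have h1 := congrArg (fun y : B => (DirectSum.decompose ℬ y n : B)) hc
  simp only [DirectSum.decompose_of_mem_same ℬ hz] at h1
  refine ⟨fun g => if hg : g ∈ G then (DirectSum.decompose ℬ (c ⟨g, hg⟩) (n - e g) : B) else 0,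
    fun g hg _ => by simp only [dif_pos hg]; exact SetLike.coe_mem _, ?_⟩
  rw [← h1, ← GradedRing.proj_apply, map_sum, ← Finset.sum_coe_sort G]
  refine Finset.sum_congr rfl fun g _ => ?_
  simp only [GradedRing.proj_apply, smul_eq_mul, dif_pos g.2]
  rw [DirectSum.coe_decompose_mul_of_right_mem ℬ n (he _ g.2)]

theorem deg_fg [Algebra.FiniteType (ℬ 0) B] (n : ℕ) :
    ∃ P : Finset B, (P : Set B) ⊆ ℬ n ∧ ℬ n ≤ ℬ 0 * Submodule.span R (P : Set B) := by
  classical
  obtain ⟨G, e, he, hG⟩ := exists_gens (ℬ := ℬ)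
  induction n using Nat.strong_induction_on with
  | _ n ih =>
    rcases Nat.eq_zero_or_pos n with rfl | hn
    · refine ⟨{1}, ?_, fun z hz => ?_⟩
      · simpa using SetLike.one_mem_graded ℬ
      · simpa using Submodule.mul_mem_mul hz (Submodule.subset_span (R := R) (show (1 : B) ∈ (({1} : Finset B) : Set B) by simp))
    choose! P hP hPle using ih
    refine ⟨(G.filter fun g => e g ≤ n).biUnion fun g => (P (n - e g)).image (· * g), ?_, fun z hz => ?_⟩
    · intro y hy
      simp only [Finset.coe_biUnion, Finset.coe_image, Set.mem_iUnion, Set.mem_image, Finset.mem_coe,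
        Finset.mem_filter] at hy
      obtain ⟨g, ⟨hg, hgn⟩, p, hp, rfl⟩ := hy
      have := SetLike.mul_mem_graded (hP (n - e g) (by have := (he g hg).1; omega) hp) (he g hg).2
      rwa [Nat.sub_add_cancel hgn] at this
    · obtain ⟨w, hw, rfl⟩ := comp_of_mem_span (fun g hg => (he g hg).2) hz
        (hG ▸ HomogeneousIdeal.mem_irrelevant_of_mem ℬ hn hz)
      refine Submodule.sum_mem _ fun g hg => ?_
      split_ifs with hgn
      · have h := Submodule.mul_mem_mul (hPle (n - e g) (by have := (he g hg).1; omega) (hw g hg hgn))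
          (Submodule.mem_span_singleton_self (R := R) g)
        refine (mul_assoc (ℬ 0) _ _).le.trans (mul_le_mul_right ?_ _) h
        rw [Submodule.span_mul_span]
        refine Submodule.span_mono ?_
        rintro _ ⟨p, hp, g', hg', rfl⟩
        obtain rfl : g' = g := hg'
        simp only [Finset.coe_biUnion, Finset.coe_image, Set.mem_iUnion, Set.mem_image, Finset.mem_coe,
          Finset.mem_filter]
        exact ⟨_, ⟨hg, hgn⟩, p, hp, rfl⟩
      · exact zero_mem _

theorem mul_deg_mem_pow {G : Finset B} {e : B → ℕ} (he : ∀ g ∈ G, g ∈ ℬ (e g))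
    (hG : (ℬ₊).toIdeal = Ideal.span (G : Set B)) :
    ∀ (K n : ℕ), K * (G.sup e + 1) ≤ n → ∀ z ∈ ℬ n, z ∈ (ℬ₊).toIdeal ^ K := by
  classical
  intro K
  induction K with
  | zero => intro n _ z _; rw [pow_zero, Ideal.one_eq_top]; trivial
  | succ K ih =>
    intro n hn z hz
    rw [Nat.succ_mul] at hn
    obtain ⟨w, hw, rfl⟩ := comp_of_mem_span he hz (hG ▸ HomogeneousIdeal.mem_irrelevant_of_mem ℬ (by omega) hz)
    refine Ideal.sum_mem _ fun g hg => ?_
    have hle : e g ≤ G.sup e := Finset.le_sup hg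
    rw [if_pos (by omega), pow_succ]
    exact Ideal.mul_mem_mul (ih _ (by omega) _ (hw g hg (by omega))) (hG ▸ Ideal.subset_span hg)

/-- The main statement. -/
theorem eventually_eq_pow [Algebra.FiniteType (ℬ 0) B]
    (hrad : (ℬ₊).toIdeal ≤ (Ideal.span (ℬ 1 : Set B)).radical)
    (hloc : ∀ f ∈ ℬ 1, ∀ n, ∀ b ∈ ℬ n, ∃ N, f ^ N * b ∈ ℬ 1 ^ (n + N)) :
    ∃ n₀ : ℕ, ∀ n : ℕ, n₀ ≤ n → ℬ n = ℬ 1 ^ n := by
  classical
  obtain ⟨G, e, he, hG⟩ := exists_gens (ℬ := ℬ)
  obtain ⟨K, hK⟩ := Ideal.exists_pow_le_of_le_radical_of_fg hrad ⟨G, hG.symm⟩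
  let n₁ := K * (G.sup e + 1) + 1
  have hstep : ∀ n, n₁ ≤ n + 1 → ℬ (n + 1) ≤ ℬ n * ℬ 1 := by
    intro n hn z hz
    have hzJ : z ∈ Ideal.span (ℬ 1 : Set B) :=
      hK (mul_deg_mem_pow (fun g hg => (he g hg).2) hG K (n + 1) (by omega) z hz)
    obtain ⟨T, hT, hzT⟩ := Submodule.mem_span_finite_of_mem_span hzJ
    obtain ⟨w, hw, rfl⟩ := comp_of_mem_span (e := fun _ => 1) (fun g hg => hT hg) hz hzT
    refine Submodule.sum_mem _ fun g hg => ?_
    rw [if_pos (by omega)]
    exact Submodule.mul_mem_mul (hw g hg (by omega)) (hT hg)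
  have hdec : ∀ j, ℬ (n₁ + j) ≤ ℬ n₁ * ℬ 1 ^ j := by
    intro j
    induction j with
    | zero => simp
    | succ j ih =>
      refine (hstep (n₁ + j) (by omega)).trans ?_
      rw [pow_succ, ← mul_assoc]
      exact mul_le_mul_left ih _
  obtain ⟨P, hP, hPle⟩ := deg_fg (ℬ := ℬ) n₁
  obtain ⟨F, hF, hFle⟩ := deg_fg (ℬ := ℬ) 1
  let S := Submodule.span R (P : Set B)
  have hQ : ∀ F' : Finset B, (F' : Set B) ⊆ ℬ 1 →
      ∃ j, 0 < j ∧ Submodule.span R (F' : Set B) ^ j * S ≤ ℬ 1 ^ (n₁ + j) := by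
    intro F'
    induction F' using Finset.induction_on with
    | empty => exact fun _ => ⟨1, one_pos, by simp⟩
    | @insert f F' _ ih =>
      intro hsub
      rw [Finset.coe_insert, Set.insert_subset_iff] at hsub
      obtain ⟨j, hj, hjle⟩ := ih hsub.2
      have hN : ∀ b ∈ P, ∃ N, f ^ N * b ∈ ℬ 1 ^ (n₁ + N) := fun b hb => hloc f hsub.1 n₁ b (hP hb)
      choose! N hN using hN
      let N₀ := P.sup N + 1
      refine ⟨N₀ + j, by omega, ?_⟩
      rw [Finset.coe_insert, Submodule.span_insert]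
      have hZ : Submodule.span R ({f} : Set B) ⊔ Submodule.span R (F' : Set B) ≤ ℬ 1 :=
        sup_le (Submodule.span_le.2 (Set.singleton_subset_iff.2 hsub.1)) (Submodule.span_le.2 hsub.2)
      refine le_trans (mul_le_mul_left (pow_sup_le _ _ N₀ j) _) ?_
      rw [Submodule.sup_mul]
      refine sup_le ?_ ?_
      · rw [mul_right_comm]
        refine le_trans (mul_le_mul' ?_ (pow_le_pow_left' hZ j)) (le_of_eq (pow_add (ℬ 1) (n₁ + N₀) j).symm) |>.trans
          (le_of_eq (by rw [add_assoc]))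
        rw [Submodule.span_pow, Submodule.span_mul_span, Submodule.span_le, Set.singleton_pow]
        rintro _ ⟨_, rfl, b, hb, rfl⟩
        have hle : N b ≤ N₀ := le_trans (Finset.le_sup hb) (Nat.le_succ _)
        have h := Submodule.mul_mem_mul (Submodule.pow_mem_pow (ℬ 1) hsub.1 (N₀ - N b)) (hN b hb)
        rw [← mul_assoc, ← pow_add f, Nat.sub_add_cancel hle, ← pow_add,
          show N₀ - N b + (n₁ + N b) = n₁ + N₀ by omega] at h
        exact h
      · rw [mul_right_comm]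
        refine le_trans (mul_le_mul' hjle (pow_le_pow_left' hZ N₀)) (le_of_eq ?_)
        rw [← pow_add, add_assoc, add_comm j N₀]
  obtain ⟨j₀, hj₀, hle₀⟩ := hQ F hF
  refine ⟨n₁ + j₀, fun n hn => le_antisymm ?_ (pow_le_deg n)⟩
  obtain ⟨j, rfl⟩ : ∃ j, n = n₁ + (j₀ + j) := ⟨n - n₁ - j₀, by omega⟩
  have h00 : ∀ i : ℕ, 0 < i → ℬ 0 ^ i ≤ ℬ 0 := fun i hi => by
    induction i with
    | zero => omega
    | succ i ih =>
      rcases Nat.eq_zero_or_pos i with rfl | hi
      · simp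
      · rw [pow_succ]; exact le_trans (mul_le_mul_left (ih hi) _) (mul_le_deg rfl)
  calc ℬ (n₁ + (j₀ + j)) ≤ ℬ n₁ * ℬ 1 ^ (j₀ + j) := hdec _
    _ ≤ (ℬ 0 * S) * ((ℬ 0 * Submodule.span R (F : Set B)) ^ j₀ * ℬ 1 ^ j) := by
        rw [pow_add]; exact mul_le_mul' hPle (mul_le_mul' (pow_le_pow_left' hFle _) le_rfl)
    _ = (ℬ 0 * ℬ 0 ^ j₀) * ((Submodule.span R (F : Set B) ^ j₀ * S) * ℬ 1 ^ j) := by rw [mul_pow]; ring
    _ ≤ ℬ 0 * (ℬ 1 ^ (n₁ + j₀) * ℬ 1 ^ j) := by
        refine mul_le_mul' ?_ (mul_le_mul' hle₀ le_rfl)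
        exact le_trans (mul_le_mul' le_rfl (h00 j₀ hj₀)) (mul_le_deg rfl)
    _ ≤ ℬ 1 ^ (n₁ + (j₀ + j)) := by
        rw [← pow_add, add_assoc]; exact zero_mul_pow (by omega)

end Groth.Agent.DegOneGenLib
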